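import Mathlib.Algebra.Category.ModuleCat.Basic
import Mathlib.LinearAlgebra.Determinant
import Mathlib.LinearAlgebra.Matrix.SchurComplement
import Mathlib.LinearAlgebra.Matrix.ToLin
import Mathlib.LinearAlgebra.Matrix.Charpoly.Coeff
import Mathlib.RingTheory.TensorProduct.Free
import Mathlib.RingTheory.Flat.Basic
import Mathlib.RingTheory.Finiteness.Prod
import Mathlib.Algebra.Module.Projective
import Mathlib.Algebra.BigOperators.Intervals

/-!
# Determinants of endomorphisms of exact complexes of finite free modules

An endomorphism of a bounded exact complex of finite free modules has equal products of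
determinants in even and in odd degrees.
-/

universe u v w

open LinearMap TensorProduct Polynomial

namespace Groth.Agent.EulerDet

theorem det_triangular {R : Type u} [CommRing R] {M : Type v} {M' : Type w} [AddCommGroup M]
    [Module R M] [AddCommGroup M'] [Module R M'] [Module.Free R M] [Module.Finite R M]
    [Module.Free R M'] [Module.Finite R M'] (g : M × M' →ₗ[R] M × M') (a : M →ₗ[R] M)
    (c : M' →ₗ[R] M') (h : ∀ y, g (0, y) = (0, c y)) (h' : ∀ p, (g p).1 = a p.1) :
    LinearMap.det g = LinearMap.det a * LinearMap.det c := by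
  classical
  let b := Module.Free.chooseBasis R M
  let b' := Module.Free.chooseBasis R M'
  rw [← det_toMatrix (b.prod b'), ← det_toMatrix b, ← det_toMatrix b']
  have : toMatrix (b.prod b') (b.prod b') g = Matrix.fromBlocks (toMatrix b b a) 0
      (Matrix.of fun j i => (toMatrix (b.prod b') (b.prod b') g) (Sum.inr j) (Sum.inl i))
      (toMatrix b' b' c) := by
    ext i j
    rcases i with i | i <;> rcases j with j | j <;> simp [toMatrix_apply, h, h']
  rw [this, Matrix.det_fromBlocks_zero₁₂]

variable {R : Type u} [CommRing R]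

/-- The folded family. -/
def foldM (M : ℕ → ModuleCat.{v} R) : ℕ → ModuleCat.{v} R
  | 0 => M 1
  | 1 => ModuleCat.of R (M 2 × M 0)
  | i + 2 => M (i + 3)

theorem euler_det (N : ℕ) : ∀ (M : ℕ → ModuleCat.{v} R) (_ : ∀ i, Module.Free R (M i))
    (_ : ∀ i, Module.Finite R (M i)) (d : ∀ i, M (i + 1) →ₗ[R] M i) (g : ∀ i, M i →ₗ[R] M i),
    (∀ i, N < i → Subsingleton (M i)) → Function.Surjective (d 0) →
    (∀ i, range (d (i + 1)) = ker (d i)) → (∀ i x, d i (g (i + 1) x) = g i (d i x)) →
    ∏ i ∈ Finset.range (N + 1), (if Even i then LinearMap.det (g i) else 1) =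
      ∏ i ∈ Finset.range (N + 1), (if Even i then 1 else LinearMap.det (g i)) := by
  induction N with
  | zero =>
    intro M hF hFi d g hv hs _ _
    have := hv 1 one_pos
    have : Subsingleton (M 0) := hs.subsingleton
    simp [det_eq_one_of_subsingleton]
  | succ N ih =>
    intro M hF hFi d g hv hs hex hc
    rcases N with _ | N
    · have := hv 2 (by lia)
      have hinj : Function.Injective (d 0) := by
        rw [← LinearMap.ker_eq_bot, ← hex 0, LinearMap.range_eq_bot]
        exact Subsingleton.elim _ _
      let e : M 1 ≃ₗ[R] M 0 := LinearEquiv.ofBijective (d 0) ⟨hinj, hs⟩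
      have hg : g 0 = e.toLinearMap ∘ₗ g 1 ∘ₗ e.symm.toLinearMap := by
        ext x
        obtain ⟨y, rfl⟩ := e.surjective x
        simpa [e] using (hc 0 y).symm
      simp [Finset.prod_range_succ, hg, det_conj]
    · have := hF 0
      obtain ⟨σ, hσ⟩ := Module.projective_lifting_property (d 0) LinearMap.id hs
      have hσ' : ∀ x, d 0 (σ x) = x := fun x => LinearMap.congr_fun hσ x
      have hd1 : ∀ x, d 0 (d 1 x) = 0 := fun x =>
        LinearMap.mem_ker.mp (hex 0 ▸ LinearMap.mem_range_self (d 1) x)
      let k₀ : M 0 →ₗ[R] ker (d 0) := (g 1 ∘ₗ σ - σ ∘ₗ g 0).codRestrict _ fun x => by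
        simp [hc, hσ']
      let d₁ : M 2 →ₗ[R] ker (d 0) := (d 1).codRestrict _ fun x => LinearMap.mem_ker.mpr (hd1 x)
      have hd₁ : Function.Surjective d₁ := by
        rintro ⟨z, hz⟩
        obtain ⟨x, hx⟩ := (hex 0 ▸ hz : z ∈ range (d 1))
        exact ⟨x, Subtype.ext hx⟩
      obtain ⟨k, hk⟩ := Module.projective_lifting_property d₁ k₀ hd₁
      have hk' : ∀ x, d 1 (k x) = g 1 (σ x) - σ (g 0 x) := fun x =>
        congrArg Subtype.val (LinearMap.congr_fun hk x)
      let d' : ∀ i, foldM M (i + 1) →ₗ[R] foldM M i
        | 0 => (LinearMap.coprod (d 1) σ : (M 2 × M 0) →ₗ[R] M 1)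
        | 1 => (LinearMap.prod (d 2) 0 : M 3 →ₗ[R] (M 2 × M 0))
        | i + 2 => d (i + 3)
      let g' : ∀ i, foldM M i →ₗ[R] foldM M i
        | 0 => g 1
        | 1 => (LinearMap.prod (g 2 ∘ₗ fst R (M 2) (M 0) + k ∘ₗ snd R (M 2) (M 0))
            (g 0 ∘ₗ snd R (M 2) (M 0)) : (M 2 × M 0) →ₗ[R] (M 2 × M 0))
        | i + 2 => g (i + 3)
      have hF' : ∀ i, Module.Free R (foldM M i)
        | 0 => hF 1
        | 1 => by have := hF 2; exact inferInstanceAs (Module.Free R (M 2 × M 0))
        | i + 2 => hF (i + 3)
      have hFi' : ∀ i, Module.Finite R (foldM M i)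
        | 0 => hFi 1
        | 1 => by
          have h2 := hFi 2
          have h0 := hFi 0
          exact inferInstanceAs (Module.Finite R (M 2 × M 0))
        | i + 2 => hFi (i + 3)
      have hv' : ∀ i, N + 1 < i → Subsingleton (foldM M i)
        | 0, h => absurd h (Nat.not_lt_zero _)
        | 1, h => absurd h (by lia)
        | i + 2, h => hv (i + 3) (by lia)
      have hs' : Function.Surjective (d' 0) := show Function.Surjective
          (LinearMap.coprod (d 1) σ : (M 2 × M 0) →ₗ[R] M 1) from fun z => by
        obtain ⟨x, hx⟩ := (hex 0 ▸ LinearMap.mem_ker.mpr (by simp [hσ']) :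
          z - σ (d 0 z) ∈ range (d 1))
        exact ⟨(x, d 0 z), by show d 1 x + σ (d 0 z) = z; rw [hx, sub_add_cancel]⟩
      have hex' : ∀ i, range (d' (i + 1)) = ker (d' i)
        | 0 => by
          ext p
          constructor
          · rintro ⟨w, rfl⟩
            show d 1 (d 2 w) + σ 0 = 0
            rw [map_zero, add_zero, ← LinearMap.mem_ker, ← hex 1]
            exact LinearMap.mem_range_self _ _
          · intro hp
            obtain ⟨x, y⟩ := p
            replace hp : d 1 x + σ y = 0 := hp
            have hy : y = 0 := by simpa [hd1, hσ'] using congrArg (d 0) hp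
            subst hy
            rw [map_zero, add_zero, ← LinearMap.mem_ker, ← hex 1] at hp
            obtain ⟨w, rfl⟩ := hp
            exact ⟨w, rfl⟩
        | 1 => by
          ext (x : M 3)
          show x ∈ range (d 3) ↔ ((d 2 x, 0) : M 2 × M 0) = 0
          rw [hex 2]
          constructor
          · intro h
            exact Prod.ext (LinearMap.mem_ker.mp h) rfl
          · intro h
            exact LinearMap.mem_ker.mpr (congrArg Prod.fst h)
        | i + 2 => hex (i + 3)
      have hc' : ∀ i x, d' i (g' (i + 1) x) = g' i (d' i x)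
        | 0, (x, y) => by
          show d 1 (g 2 x + k y) + σ (g 0 y) = g 1 (d 1 x + σ y)
          rw [map_add, map_add, hc 1, hk']
          abel
        | 1, x => by
          show ((d 2 (g 3 x), 0) : M 2 × M 0) = (g 2 (d 2 x) + k 0, g 0 0)
          rw [hc 2, map_zero, map_zero, add_zero]
        | i + 2, x => hc (i + 3) x
      have h := ih (foldM M) hF' hFi' d' g' hv' hs' hex' hc'
      have hdet1 : LinearMap.det (g' 1) = LinearMap.det (g 2) * LinearMap.det (g 0) := by
        have := hF 2; have := hFi 2; have := hFi 0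
        -- upper triangular: swap the factors
        have hswap := det_triangular
          ((LinearEquiv.prodComm R (M 2) (M 0)).toLinearMap ∘ₗ
            (LinearMap.prod (g 2 ∘ₗ fst R (M 2) (M 0) + k ∘ₗ snd R (M 2) (M 0))
              (g 0 ∘ₗ snd R (M 2) (M 0))) ∘ₗ (LinearEquiv.prodComm R (M 2) (M 0)).symm.toLinearMap)
          (g 0) (g 2) (fun x => by simp) (fun p => by simp)
        rw [det_conj] at hswap
        exact hswap.trans (mul_comm _ _)
      rw [Finset.prod_range_succ', Finset.prod_range_succ'] at h
      rw [Finset.prod_range_succ', Finset.prod_range_succ', Finset.prod_range_succ',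
        Finset.prod_range_succ', Finset.prod_range_succ', Finset.prod_range_succ']
      rw [Finset.prod_range_succ', Finset.prod_range_succ'] at h
      simp only [zero_add, Nat.even_add_one, not_not, Even.zero, not_true, if_true, if_false,
        ite_not, mul_one, one_mul, hdet1] at h ⊢
      dsimp only [g'] at h
      change (∏ x ∈ Finset.range N, if Even x then 1 else LinearMap.det (g (x + 3))) *
          LinearMap.det (g 2) * LinearMap.det (g 0) =
        (∏ x ∈ Finset.range N, if Even x then LinearMap.det (g (x + 3)) else 1) * LinearMap.det (g 1)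
      exact (mul_assoc _ _ _).trans h.symm

/-- `detOneSub` in matrix form. -/
theorem det_id_sub_X_smul {A : Type u} [CommRing A] {M : Type v} [AddCommGroup M] [Module A M]
    {ι : Type w} [Fintype ι] [DecidableEq ι] (b : Module.Basis ι A M) (u : M →ₗ[A] M) :
    LinearMap.det (LinearMap.id - (X : A[X]) • u.baseChange A[X]) = (toMatrix b b u).charpolyRev := by
  rw [← det_toMatrix (Algebra.TensorProduct.basis A[X] b), Matrix.charpolyRev]
  congr 1
  rw [← toMatrix_id (Algebra.TensorProduct.basis A[X] b), ← Polynomial.algebraMap_eq,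
    ← toMatrix_baseChange]
  ext i j
  simp [LinearMap.toMatrix_apply, Matrix.one_apply, Finsupp.single_apply, eq_comm]

theorem det_id_sub_prod {A : Type u} [CommRing A] {M : Type v} {M' : Type w} [AddCommGroup M]
    [Module A M] [AddCommGroup M'] [Module A M'] [Module.Free A M] [Module.Finite A M]
    [Module.Free A M'] [Module.Finite A M'] (g : M × M' →ₗ[A] M × M') (a : M →ₗ[A] M)
    (c : M' →ₗ[A] M') (h : ∀ y, g (0, y) = (0, c y)) (h' : ∀ p, (g p).1 = a p.1) :
    LinearMap.det (LinearMap.id - (X : A[X]) • g.baseChange A[X]) =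
      LinearMap.det (LinearMap.id - (X : A[X]) • a.baseChange A[X]) *
        LinearMap.det (LinearMap.id - (X : A[X]) • c.baseChange A[X]) := by
  classical
  let b := Module.Free.chooseBasis A M
  let b' := Module.Free.chooseBasis A M'
  rw [det_id_sub_X_smul (b.prod b'), det_id_sub_X_smul b, det_id_sub_X_smul b']
  have : toMatrix (b.prod b') (b.prod b') g = Matrix.fromBlocks (toMatrix b b a) 0
      (Matrix.of fun j i => (toMatrix (b.prod b') (b.prod b') g) (Sum.inr j) (Sum.inl i))
      (toMatrix b' b' c) := by
    ext i j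
    rcases i with i | i <;> rcases j with j | j <;> simp [toMatrix_apply, h, h']
  rw [this, Matrix.charpolyRev, Matrix.charpolyRev, Matrix.charpolyRev, Matrix.fromBlocks_map,
    Matrix.fromBlocks_smul, ← Matrix.fromBlocks_one, sub_eq_add_neg, Matrix.fromBlocks_neg,
    Matrix.fromBlocks_add, Matrix.map_zero _ (map_zero C), smul_zero, neg_zero, add_zero,
    Matrix.det_fromBlocks_zero₁₂, sub_eq_add_neg, sub_eq_add_neg]

end Groth.Agent.EulerDet
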