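import Groth.Agent.Lib.EulerDet.Basic
import Groth.Prelude.Def_SGA4hB
import Mathlib.Algebra.Homology.DerivedCategory.KProjective
import Mathlib.Algebra.Category.ModuleCat.Projective
import Mathlib.Algebra.Category.ModuleCat.Abelian
import Mathlib.Algebra.Homology.Embedding.CochainComplex

/-!
# Characteristic series of endomorphisms of perfect complexes are derived invariants
-/

universe w v u

open CategoryTheory Limits TensorProduct Polynomial

namespace Groth.Agent.EulerDet

section KProj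

variable {C : Type u} [Category.{v} C] [Abelian C] [HasDerivedCategory.{w} C]
  {K L : CochainComplex C ℤ} [K.IsKProjective]

theorem exists_Q_map_eq (φ : DerivedCategory.Q.obj K ⟶ DerivedCategory.Q.obj L) :
    ∃ f : K ⟶ L, DerivedCategory.Q.map f = φ := by
  obtain ⟨g, hg⟩ := (CochainComplex.IsKProjective.Qh_map_bijective K
    ((HomotopyCategory.quotient C (.up ℤ)).obj L)).surjective
    ((DerivedCategory.quotientCompQhIso C).hom.app K ≫ φ ≫
      (DerivedCategory.quotientCompQhIso C).inv.app L)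
  obtain ⟨f, rfl⟩ := (HomotopyCategory.quotient C (.up ℤ)).map_surjective g
  refine ⟨f, ?_⟩
  rw [← cancel_mono ((DerivedCategory.quotientCompQhIso C).inv.app L),
    DerivedCategory.quotientCompQhIso_inv_naturality, hg]
  simp

theorem exists_homotopy_of_Q_map_eq (f g : K ⟶ L)
    (h : DerivedCategory.Q.map f = DerivedCategory.Q.map g) : Nonempty (Homotopy f g) := by
  refine ⟨HomotopyCategory.homotopyOfEq _ _ ((CochainComplex.IsKProjective.Qh_map_bijective K
    ((HomotopyCategory.quotient C (.up ℤ)).obj L)).injective ?_)⟩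
  rw [← cancel_mono ((DerivedCategory.quotientCompQhIso C).hom.app L),
    DerivedCategory.quotientCompQhIso_hom_naturality,
    DerivedCategory.quotientCompQhIso_hom_naturality, h]

end KProj

variable {A : Type u} [CommRing A]

open scoped Classical in
theorem prod_ite_eq_finprod {β : Type*} [CommMonoid β] (F : ℤ → β) (P : ℤ → Prop) (c : ℤ) (n : ℕ)
    (hF : ∀ i, F i ≠ 1 → c - n < i ∧ i ≤ c) :
    ∏ j ∈ Finset.range n, (if P (c - j) then F (c - j) else 1) = ∏ᶠ i : {i : ℤ // P i}, F i := by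
  rw [finprod_subtype_eq_finprod_cond]
  have e : ∀ i, (∏ᶠ (_ : P i), F i) = if P i then F i else 1 := fun i => finprod_eq_if
  rw [finprod_congr e, finprod_eq_prod_of_mulSupport_subset _
    (s := (Finset.range n).image fun j : ℕ => c - (j : ℤ)), Finset.prod_image]
  · intro a _ b _ hab
    simpa using hab
  · intro i hi
    have : F i ≠ 1 := fun h => hi (by simp [h])
    obtain ⟨h₁, h₂⟩ := hF i this
    simp only [Finset.coe_image, Set.mem_image, Finset.mem_coe, Finset.mem_range]
    exact ⟨(c - i).toNat, by lia, by lia⟩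

theorem subsingleton_tensor (M : Type u) [AddCommGroup M] [Module A M] [Subsingleton M] :
    Subsingleton (A[X] ⊗[A] M) :=
  subsingleton_of_forall_eq 0 fun z => by
    induction z using TensorProduct.induction_on with
    | zero => rfl
    | tmul p x => rw [Subsingleton.elim x 0, TensorProduct.tmul_zero]
    | add x y hx hy => rw [hx, hy, add_zero]

theorem detOneSub_eq_one (M : ModuleCat.{u} A) [Subsingleton M] (u : M ⟶ M) :
    SGA4h.detOneSub M u = 1 := by
  have : Subsingleton (A[X] ⊗[A] M) := subsingleton_tensor _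
  exact LinearMap.det_eq_one_of_subsingleton _

theorem subsingleton_of_isStrictlyLE (K : CochainComplex (ModuleCat.{u} A) ℤ) (b i : ℤ)
    [K.IsStrictlyLE b] (h : b < i) : Subsingleton (K.X i) :=
  ModuleCat.subsingleton_of_isZero (K.isZero_of_isStrictlyLE b i h)

theorem subsingleton_of_isStrictlyGE (K : CochainComplex (ModuleCat.{u} A) ℤ) (a i : ℤ)
    [K.IsStrictlyGE a] (h : i < a) : Subsingleton (K.X i) :=
  ModuleCat.subsingleton_of_isZero (K.isZero_of_isStrictlyGE a i h)

theorem homotopy_comm {K L : CochainComplex (ModuleCat.{u} A) ℤ} {f g : K ⟶ L} (h : Homotopy f g)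
    (i j k : ℤ) (hij : i + 1 = j) (hjk : j + 1 = k) (x : K.X j) :
    f.f j x = h.hom k j (K.d j k x) + L.d i j (h.hom j i x) + g.f j x := by
  have := h.comm j
  rw [dNext_eq h.hom (show (ComplexShape.up ℤ).Rel j k from hjk),
    prevD_eq h.hom (show (ComplexShape.up ℤ).Rel i j from hij)] at this
  rw [this]
  rfl

theorem charSeries_invariant [HasDerivedCategory.{w} (ModuleCat.{u} A)]
    (K K' : CochainComplex (ModuleCat.{u} A) ℤ) (a b : ℤ) [K.IsStrictlyGE a] [K.IsStrictlyLE b]
    [K'.IsStrictlyGE a] [K'.IsStrictlyLE b]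
    (hK : ∀ i : ℤ, Module.Finite A (K.X i) ∧ Module.Free A (K.X i))
    (hK' : ∀ i : ℤ, Module.Finite A (K'.X i) ∧ Module.Free A (K'.X i))
    (u : K ⟶ K) (u' : K' ⟶ K') (φ : DerivedCategory.Q.obj K ≅ DerivedCategory.Q.obj K')
    (hφ : DerivedCategory.Q.map u ≫ φ.hom = φ.hom ≫ DerivedCategory.Q.map u') :
    SGA4h.detEven K u * SGA4h.detOdd K' u' = SGA4h.detOdd K u * SGA4h.detEven K' u' := by
  classical
  have hfree : ∀ i, Module.Free A (K.X i) := fun i => (hK i).2
  have hfin : ∀ i, Module.Finite A (K.X i) := fun i => (hK i).1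
  have hfree' : ∀ i, Module.Free A (K'.X i) := fun i => (hK' i).2
  have hfin' : ∀ i, Module.Finite A (K'.X i) := fun i => (hK' i).1
  have : ∀ i, Projective (K.X i) := fun i => inferInstance
  have : ∀ i, Projective (K'.X i) := fun i => inferInstance
  have : K.IsKProjective := CochainComplex.isKProjective_of_projective K b
  have : K'.IsKProjective := CochainComplex.isKProjective_of_projective K' b
  obtain ⟨f, hf⟩ := exists_Q_map_eq φ.hom
  obtain ⟨g, hg⟩ := exists_Q_map_eq φ.inv
  obtain ⟨hu⟩ := exists_homotopy_of_Q_map_eq (f ≫ u') (u ≫ f) (by simp [hf, hφ])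
  obtain ⟨h₁⟩ := exists_homotopy_of_Q_map_eq (f ≫ g) (𝟙 K) (by simp [hf, hg])
  obtain ⟨h₂⟩ := exists_homotopy_of_Q_map_eq (g ≫ f) (𝟙 K') (by simp [hf, hg])
  have hinj : ∀ (i j k : ℤ) (_ : i + 1 = j) (_ : j + 1 = k) (x : K.X j) (y : K'.X i),
      K.d j k x = 0 → f.f j x + K'.d i j y = 0 → ∃ w : K.X i, K.d i j w = x := by
    intro i j k hij hjk x y hx hxy
    refine ⟨-(g.f i y) - h₁.hom j i x, ?_⟩
    have h := homotopy_comm h₁ i j k hij hjk x
    rw [hx, map_zero, zero_add] at h
    have hgd : K.d i j (g.f i y) = g.f j (K'.d i j y) := (ConcreteCategory.congr_hom (g.comm i j) y)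
    have hgf : g.f j (f.f j x) + g.f j (K'.d i j y) = 0 := by rw [← map_add, hxy, map_zero]
    change g.f j (f.f j x) = K.d i j (h₁.hom j i x) + x at h
    rw [map_sub, map_neg, hgd]
    linear_combination (norm := module) -hgf + h
  have hsurj : ∀ (i j k : ℤ) (_ : i + 1 = j) (_ : j + 1 = k) (y : K'.X j),
      K'.d j k y = 0 → ∃ (z : K.X j) (v : K'.X i), K.d j k z = 0 ∧ f.f j z + K'.d i j v = y := by
    intro i j k hij hjk y hy
    refine ⟨g.f j y, -(h₂.hom j i y), ?_, ?_⟩
    · have hgd : K.d j k (g.f j y) = g.f k (K'.d j k y) := (ConcreteCategory.congr_hom (g.comm j k) y)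
      rw [hgd, hy, map_zero]
    · have h := homotopy_comm h₂ i j k hij hjk y
      rw [hy, map_zero, zero_add] at h
      change f.f j (g.f j y) = K'.d i j (h₂.hom j i y) + y at h
      rw [map_neg, h]
      abel
  -- the cone
  let e : ℕ → ℤ := fun j => b + 1 - j
  have he : ∀ j, e (j + 1) + 1 = e j := fun j => by simp only [e]; lia
  let M : ℕ → ModuleCat.{u} A := fun j => ModuleCat.of A (K.X (e j) × K'.X (e (j + 1)))
  let D : ∀ j, M (j + 1) →ₗ[A] M j := fun j =>
    LinearMap.prod (-((K.d (e (j + 1)) (e j)).hom ∘ₗ LinearMap.fst A _ _))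
      (LinearMap.coprod (f.f (e (j + 1))).hom (K'.d (e (j + 2)) (e (j + 1))).hom)
  let U : ∀ j, M j →ₗ[A] M j := fun j =>
    LinearMap.prod ((u.f (e j)).hom ∘ₗ LinearMap.fst A _ _)
      (LinearMap.coprod (hu.hom (e j) (e (j + 1))).hom (u'.f (e (j + 1))).hom)
  have hD : ∀ j x y, D j (x, y) = (-(K.d (e (j + 1)) (e j) x),
      f.f (e (j + 1)) x + K'.d (e (j + 2)) (e (j + 1)) y) := fun j x y => rfl
  have hU : ∀ j x y, U j (x, y) = (u.f (e j) x, hu.hom (e j) (e (j + 1)) x + u'.f (e (j + 1)) y) :=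
    fun j x y => rfl
  have hcomm : ∀ j z, D j (U (j + 1) z) = U j (D j z) := by
    rintro j ⟨x, y⟩
    rw [hU, hD, hD, hU]
    have e₁ : K.d (e (j + 1)) (e j) (u.f _ x) = u.f _ (K.d (e (j + 1)) (e j) x) :=
      (ConcreteCategory.congr_hom (u.comm _ _) x)
    have e₂ : K'.d (e (j + 2)) (e (j + 1)) (u'.f _ y) = u'.f _ (K'.d (e (j + 2)) (e (j + 1)) y) :=
      (ConcreteCategory.congr_hom (u'.comm _ _) y)
    have e₃ := homotopy_comm hu (e (j + 2)) (e (j + 1)) (e j) (he (j + 1)) (he j) x
    change u'.f _ (f.f _ x) = _ + _ + f.f _ (u.f _ x) at e₃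
    refine Prod.ext ?_ ?_
    · show -(K.d (e (j + 1)) (e j) (u.f _ x)) = u.f _ (-(K.d (e (j + 1)) (e j) x))
      rw [map_neg, e₁]
    · show f.f _ (u.f _ x) + K'.d (e (j + 2)) (e (j + 1)) (hu.hom (e (j + 1)) (e (j + 2)) x + u'.f _ y) =
        hu.hom (e j) (e (j + 1)) (-(K.d (e (j + 1)) (e j) x)) +
          u'.f _ (f.f _ x + K'.d (e (j + 2)) (e (j + 1)) y)
      rw [map_add, map_add, map_neg, e₂, e₃]
      abel
  have hDD : ∀ j z, D j (D (j + 1) z) = 0 := by
    rintro j ⟨x, y⟩
    rw [hD, hD]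
    have q₁ : K.d (e (j + 1)) (e j) (K.d (e (j + 2)) (e (j + 1)) x) = 0 :=
      ConcreteCategory.congr_hom (K.d_comp_d (e (j + 2)) (e (j + 1)) (e j)) x
    have q₂ : K'.d (e (j + 2)) (e (j + 1)) (K'.d (e (j + 3)) (e (j + 2)) y) = 0 :=
      ConcreteCategory.congr_hom (K'.d_comp_d (e (j + 3)) (e (j + 2)) (e (j + 1))) y
    have q₃ : K'.d (e (j + 2)) (e (j + 1)) (f.f _ x) = f.f _ (K.d (e (j + 2)) (e (j + 1)) x) :=
      (ConcreteCategory.congr_hom (f.comm _ _) x)
    refine Prod.ext ?_ ?_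
    · show -(K.d (e (j + 1)) (e j) (-(K.d (e (j + 2)) (e (j + 1)) x))) = 0
      rw [map_neg, q₁, neg_zero, neg_zero]
    · show f.f _ (-(K.d (e (j + 2)) (e (j + 1)) x)) +
        K'.d (e (j + 2)) (e (j + 1)) (f.f _ x + K'.d (e (j + 3)) (e (j + 2)) y) = 0
      rw [map_add, map_neg, q₂, q₃, add_zero, neg_add_cancel]
  have hex : ∀ j, Function.Exact (D (j + 1)) (D j) := by
    intro j z
    constructor
    · intro hz
      obtain ⟨x, y⟩ := z
      rw [hD] at hz
      have hx : K.d (e (j + 1)) (e j) x = 0 := neg_eq_zero.mp (congrArg Prod.fst hz)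
      have hxy : f.f (e (j + 1)) x + K'.d (e (j + 2)) (e (j + 1)) y = 0 := congrArg Prod.snd hz
      obtain ⟨w, hw⟩ := hinj (e (j + 2)) (e (j + 1)) (e j) (he (j + 1)) (he j) x y hx hxy
      obtain ⟨z, v, hz', hv⟩ := hsurj (e (j + 3)) (e (j + 2)) (e (j + 1)) (he (j + 2)) (he (j + 1))
        (f.f (e (j + 2)) w + y) (by
          have q : K'.d (e (j + 2)) (e (j + 1)) (f.f _ w) = f.f _ (K.d (e (j + 2)) (e (j + 1)) w) :=
            (ConcreteCategory.congr_hom (f.comm _ _) w)
          rw [map_add, q, hw, hxy])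
      refine ⟨(z - w, v), ?_⟩
      rw [hD]
      refine Prod.ext ?_ ?_
      · show -(K.d (e (j + 2)) (e (j + 1)) (z - w)) = x
        rw [map_sub, hz', hw, zero_sub, neg_neg]
      · show f.f (e (j + 2)) (z - w) + K'.d (e (j + 3)) (e (j + 2)) v = y
        rw [map_sub, sub_add_eq_add_sub, hv]
        abel
    · rintro ⟨w, rfl⟩
      exact hDD j w
  have hsurj0 : Function.Surjective (D 0) := by
    rintro ⟨x, y⟩
    have := subsingleton_of_isStrictlyLE K b (e 0) (by simp only [e]; lia)
    have := subsingleton_of_isStrictlyLE K' b (e 0) (by simp only [e]; lia)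
    obtain ⟨z, v, -, hv⟩ := hsurj (e 2) (e 1) (e 0) (he 1) (he 0) y (Subsingleton.elim _ _)
    exact ⟨(z, v), by rw [hD]; exact Prod.ext (Subsingleton.elim _ _) hv⟩
  -- base change to the polynomial ring
  let N : ℕ := (b + 2 - a).toNat
  let T : ℕ → ModuleCat.{u} A[X] := fun j => ModuleCat.of A[X] (A[X] ⊗[A] M j)
  let dT : ∀ j, T (j + 1) →ₗ[A[X]] T j := fun j => (D j).baseChange A[X]
  let gT : ∀ j, T j →ₗ[A[X]] T j := fun j => LinearMap.id - (X : A[X]) • (U j).baseChange A[X]
  have hMf : ∀ j, Module.Free A (M j) := fun j =>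
    inferInstanceAs (Module.Free A (K.X (e j) × K'.X (e (j + 1))))
  have hMn : ∀ j, Module.Finite A (M j) := fun j =>
    inferInstanceAs (Module.Finite A (K.X (e j) × K'.X (e (j + 1))))
  have key := euler_det N T (fun j => inferInstanceAs (Module.Free A[X] (A[X] ⊗[A] M j)))
    (fun j => inferInstanceAs (Module.Finite A[X] (A[X] ⊗[A] M j))) dT gT (fun j hj => by
      have := subsingleton_of_isStrictlyGE K a (e j) (by simp only [e]; lia)
      have := subsingleton_of_isStrictlyGE K' a (e (j + 1)) (by simp only [e]; lia)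
      have : Subsingleton (M j) := inferInstanceAs (Subsingleton (K.X (e j) × K'.X (e (j + 1))))
      exact subsingleton_tensor _)
    (LinearMap.lTensor_surjective A[X] hsurj0)
    (fun j => by
      ext z
      exact ((Module.Flat.lTensor_exact A[X] (hex j)) z).symm)
    (fun j z => by
      have hc : D j ∘ₗ U (j + 1) = U j ∘ₗ D j := LinearMap.ext (hcomm j)
      have hc' := LinearMap.congr_fun (congrArg (LinearMap.baseChange A[X]) hc) z
      rw [LinearMap.baseChange_comp, LinearMap.baseChange_comp] at hc'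
      simp only [LinearMap.coe_comp, Function.comp_apply] at hc'
      show (D j).baseChange A[X] (z - (X : A[X]) • (U (j + 1)).baseChange A[X] z) = _
      rw [map_sub, map_smul, hc']
      rfl)
  let p : ℤ → A[X] := fun i => SGA4h.detOneSub (K.X i) (u.f i)
  let q : ℤ → A[X] := fun i => SGA4h.detOneSub (K'.X i) (u'.f i)
  have hdet : ∀ j, LinearMap.det (gT j) = p (e j) * q (e (j + 1)) := fun j =>
    det_id_sub_prod (U j) (u.f (e j)).hom (u'.f (e (j + 1))).hom
      (fun y => by
        rw [hU]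
        simp)
      (fun z => rfl)
  simp only [hdet] at key
  have hp : ∀ i, p i ≠ 1 → a ≤ i ∧ i ≤ b := fun i hi => by
    by_contra hc
    rcases not_and_or.mp hc with h | h
    · have := subsingleton_of_isStrictlyGE K a i (by lia)
      exact hi (detOneSub_eq_one _ _)
    · have := subsingleton_of_isStrictlyLE K b i (by lia)
      exact hi (detOneSub_eq_one _ _)
  have hq : ∀ i, q i ≠ 1 → a ≤ i ∧ i ≤ b := fun i hi => by
    by_contra hc
    rcases not_and_or.mp hc with h | h
    · have := subsingleton_of_isStrictlyGE K' a i (by lia)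
      exact hi (detOneSub_eq_one _ _)
    · have := subsingleton_of_isStrictlyLE K' b i (by lia)
      exact hi (detOneSub_eq_one _ _)
  have P₁ : ∀ P : ℤ → Prop, ∏ j ∈ Finset.range (N + 1), (if P (e j) then p (e j) else 1) =
      ∏ᶠ i : {i : ℤ // P i}, p i := fun P =>
    prod_ite_eq_finprod p P (b + 1) (N + 1) fun i hi => by
      have := hp i hi; simp only [N]; lia
  have Q₁ : ∀ P : ℤ → Prop, ∏ j ∈ Finset.range (N + 1), (if P (e (j + 1)) then q (e (j + 1)) else 1) =
      ∏ᶠ i : {i : ℤ // P i}, q i := fun P => by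
    rw [← prod_ite_eq_finprod q P b (N + 1) fun i hi => by have := hq i hi; simp only [N]; lia]
    exact Finset.prod_congr rfl fun j _ => by
      rw [show e (j + 1) = b - (j : ℤ) by simp only [e]; lia]
  have par : ∀ j : ℕ, (Even (e j) ↔ (Even (b + 1) ↔ Even j)) ∧ (Odd (e j) ↔ ¬(Even (b + 1) ↔ Even j)) ∧
      (Even (e (j + 1)) ↔ ¬(Even (b + 1) ↔ Even j)) ∧ (Odd (e (j + 1)) ↔ (Even (b + 1) ↔ Even j)) := by
    intro j
    simp only [e, Int.odd_iff, Int.even_iff, Nat.even_iff]
    push_cast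
    refine ⟨?_, ?_, ?_, ?_⟩ <;> omega
  rw [SGA4h.detEven, SGA4h.detOdd, SGA4h.detOdd, SGA4h.detEven, ← P₁ Even, ← Q₁ Odd, ← P₁ Odd,
    ← Q₁ Even, ← Finset.prod_mul_distrib, ← Finset.prod_mul_distrib]
  by_cases hb : Even (b + 1)
  · refine (Eq.trans (Finset.prod_congr rfl fun j _ => ?_) key).trans
      (Finset.prod_congr rfl fun j _ => ?_) <;>
    obtain ⟨p1, p2, p3, p4⟩ := par j <;>
    simp only [p1, p2, p3, p4, hb, true_iff] <;> split_ifs <;> simp
  · refine (Eq.trans (Finset.prod_congr rfl fun j _ => ?_) key.symm).trans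
      (Finset.prod_congr rfl fun j _ => ?_) <;>
    obtain ⟨p1, p2, p3, p4⟩ := par j <;>
    simp only [p1, p2, p3, p4, hb, false_iff, not_not] <;> split_ifs <;> simp

end Groth.Agent.EulerDet
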