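import Groth.Agent.Lib.EulerDet.SymTrace
import Groth.Agent.Lib.EulerDet.Basic
import Mathlib.LinearAlgebra.Eigenspace.Triangularizable
import Mathlib.LinearAlgebra.Matrix.Block
import Mathlib.LinearAlgebra.Basis.Fin
import Mathlib.LinearAlgebra.Projection
import Mathlib.RingTheory.PowerSeries.Basic
import Mathlib.Data.Finsupp.Multiset
import Mathlib.FieldTheory.IsAlgClosed.AlgebraicClosure
import Mathlib.RingTheory.Localization.FractionRing
import Mathlib.Algebra.Order.Antidiag.Finsupp

/-!
# The series of traces on symmetric powers is inverse to `det(1 - u t)`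
-/

universe u v w

open PiTensorProduct TensorProduct

namespace Groth.Agent.EulerDet

theorem exists_triangular_basis {K : Type u} [Field K] [IsAlgClosed K] (r : ℕ) :
    ∀ {V : Type v} [AddCommGroup V] [Module K V] [FiniteDimensional K V],
      Module.finrank K V = r → ∀ f : V →ₗ[K] V,
        ∃ b : Module.Basis (Fin r) K V, (LinearMap.toMatrix b b f).IsUpperTriangular := by
  induction r with
  | zero =>
    intro V _ _ _ h f
    exact ⟨Module.finBasisOfFinrankEq K V h, fun i => i.elim0⟩
  | succ r ih =>
    intro V _ _ _ h f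
    haveI : Nontrivial V := Module.nontrivial_of_finrank_pos (R := K) (by lia)
    obtain ⟨μ, hμ⟩ := Module.End.exists_eigenvalue f
    obtain ⟨v, hv⟩ := hμ.exists_hasEigenvector
    have hv0 : v ≠ 0 := hv.2
    obtain ⟨W, hW⟩ := Submodule.exists_isCompl (K ∙ v)
    have hr : Module.finrank K W = r := by
      have := Submodule.finrank_add_eq_of_isCompl hW
      rw [finrank_span_singleton hv0, h] at this
      lia
    let g : W →ₗ[K] W := Submodule.projectionOnto W (K ∙ v) hW.symm ∘ₗ f ∘ₗ W.subtype
    obtain ⟨c, hc⟩ := ih hr g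
    have hli : ∀ (a : K), ∀ x ∈ W, a • v + x = 0 → a = 0 := by
      intro a x hx he
      have h1 : a • v ∈ W := by rw [eq_neg_of_add_eq_zero_left he]; exact W.neg_mem hx
      have h2 : a • v = 0 :=
        (Submodule.disjoint_def.mp hW.disjoint) _ (Submodule.smul_mem _ _ (Submodule.mem_span_singleton_self v)) h1
      exact (smul_eq_zero.mp h2).resolve_right hv0
    have hsp : ∀ z : V, ∃ a : K, z + a • v ∈ W := by
      intro z
      obtain ⟨y, hy, x, hx, rfl⟩ := Submodule.mem_sup.mp
        (show z ∈ (K ∙ v) ⊔ W by rw [hW.codisjoint.eq_top]; trivial)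
      obtain ⟨a, rfl⟩ := Submodule.mem_span_singleton.mp hy
      exact ⟨-a, by simpa [neg_smul] using hx⟩
    let b := Module.Basis.mkFinCons v c hli hsp
    have hb0 : b 0 = v := by simp [b]
    have hbs : ∀ j, b (Fin.succ j) = (c j : V) := fun j => by simp [b]
    have hW' : ∀ (x : W) (i : Fin r), b.repr (x : V) i.succ = c.repr x i := by
      intro x i
      have hL : (Finsupp.lapply i.succ ∘ₗ b.repr.toLinearMap ∘ₗ W.subtype : W →ₗ[K] K) =
          Finsupp.lapply i ∘ₗ c.repr.toLinearMap := c.ext fun j => by
        simp [← hbs j, Finsupp.single_apply]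
      exact LinearMap.congr_fun hL x
    refine ⟨b, fun i j hji => ?_⟩
    rw [LinearMap.toMatrix_apply]
    obtain ⟨i, rfl⟩ := Fin.eq_succ_of_ne_zero (Fin.ne_zero_of_lt hji)
    rcases Fin.eq_zero_or_eq_succ j with rfl | ⟨j, rfl⟩
    · rw [hb0, hv.apply_eq_smul, ← hb0, map_smul, Finsupp.smul_apply, b.repr_self,
        Finsupp.single_eq_of_ne (Fin.succ_ne_zero i), smul_zero]
    · rw [hbs]
      have hmem : f (c j : V) - (g (c j) : V) ∈ (K ∙ v) := by
        obtain ⟨a, ha⟩ := hsp (f (c j : V))
        have hg : (g (c j) : V) = f (c j : V) + a • v := by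
          have e : g (c j) = Submodule.projectionOnto W (K ∙ v) hW.symm ((⟨_, ha⟩ : W) - a • v) := by
            simp [g]
          rw [e, map_sub, Submodule.projectionOnto_apply_left,
            Submodule.projectionOnto_apply_of_mem_right hW.symm (Submodule.smul_mem _ _ (Submodule.mem_span_singleton_self v)),
            sub_zero]
        rw [hg]
        simpa using Submodule.smul_mem _ (-a) (Submodule.mem_span_singleton_self v)
      obtain ⟨a, ha⟩ := Submodule.mem_span_singleton.mp hmem
      have e : f (c j : V) = a • v + (g (c j) : V) := by rw [ha]; abel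
      rw [e, map_add, Finsupp.add_apply, ← hb0, map_smul, Finsupp.smul_apply, b.repr_self,
        Finsupp.single_eq_of_ne (Fin.succ_ne_zero i), smul_zero, zero_add, hW']
      have := hc (Fin.succ_lt_succ_iff.mp hji)
      rwa [LinearMap.toMatrix_apply] at this

section Triangular

variable {R : Type u} [CommRing R] {r : ℕ} {n : ℕ}

theorem T_of_triangular (N : Matrix (Fin r) (Fin r) R) (hN : N.IsUpperTriangular) :
    T n N = ∑ s : Sym (Fin r) n, (s.1.map fun i => N i i).prod := by
  refine Finset.sum_congr rfl fun s _ => ?_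
  rw [Finset.sum_eq_single (rep s)]
  · conv_rhs => rw [← mult_rep s]
    simp only [mult, Multiset.map_map]
    rfl
  · intro f hf hne
    by_contra hp
    apply hne
    have hle : ∀ k ∈ Finset.univ, (rep s k).val ≤ (f k).val := fun k _ => by
      by_contra hlt
      exact hp (Finset.prod_eq_zero (Finset.mem_univ k) (hN (not_le.mp fun h => hlt h)))
    have hsum : ∑ k, (rep s k).val = ∑ k, (f k).val := by
      have := congrArg (fun t : Sym (Fin r) n => (t.1.map fun i : Fin r => (i : ℕ)).sum)
        ((mult_rep s).trans (Finset.mem_filter.mp hf).2.symm)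
      simp only [mult, Multiset.map_map] at this
      exact this
    exact funext fun k => (Fin.ext ((Finset.sum_eq_sum_iff_of_le hle).mp hsum k (Finset.mem_univ k))).symm
  · intro h
    exact absurd (Finset.mem_filter.mpr ⟨Finset.mem_univ (rep s), mult_rep s⟩) h

theorem charpolyRev_of_triangular (N : Matrix (Fin r) (Fin r) R) (hN : N.IsUpperTriangular) :
    N.charpolyRev = ∏ i, (1 - Polynomial.X * Polynomial.C (N i i)) := by
  rw [Matrix.charpolyRev, Matrix.det_of_isUpperTriangular]
  · exact Finset.prod_congr rfl fun i _ => by simp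
  · intro i j hji
    have hji' : i ≠ j := (ne_of_lt hji).symm
    simp [hji', hN hji]

theorem series_triangular (N : Matrix (Fin r) (Fin r) R) (hN : N.IsUpperTriangular) :
    (N.charpolyRev : PowerSeries R) * PowerSeries.mk (fun n => T n N) = 1 := by
  classical
  have hg : PowerSeries.mk (fun n => T n N) = ∏ i, PowerSeries.mk (fun m => N i i ^ m) := by
    ext n
    rw [PowerSeries.coeff_mk, PowerSeries.coeff_prod, T_of_triangular N hN]
    simp only [PowerSeries.coeff_mk]
    refine Finset.sum_bij (fun s _ => Multiset.toFinsupp s.1) ?_ ?_ ?_ ?_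
    · intro s _
      rw [Finset.mem_finsuppAntidiag]
      refine ⟨?_, Finset.subset_univ _⟩
      simp only [Multiset.toFinsupp_apply]
      exact (Multiset.sum_count_eq_card fun a _ => Finset.mem_univ a).trans s.2
    · intro s _ t _ h
      exact Subtype.ext (Multiset.toFinsupp.injective h)
    · intro l hl
      rw [Finset.mem_finsuppAntidiag] at hl
      refine ⟨⟨Finsupp.toMultiset l, ?_⟩, Finset.mem_univ _, Finsupp.toMultiset_toFinsupp l⟩
      rw [Finsupp.card_toMultiset]
      exact (Finsupp.sum_fintype _ _ (fun _ => rfl)).trans hl.1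
    · intro s _
      simp only [Multiset.toFinsupp_apply]
      exact Finset.prod_multiset_map_count s.1 _ |>.trans (Finset.prod_subset (Finset.subset_univ _)
        fun i _ hi => by rw [Multiset.count_eq_zero.mpr (by simpa using hi), pow_zero])
  rw [hg, charpolyRev_of_triangular N hN, ← Polynomial.coeToPowerSeries.ringHom_apply, map_prod,
    ← Finset.prod_mul_distrib]
  refine Finset.prod_eq_one fun i _ => ?_
  rw [map_sub, map_one, map_mul, Polynomial.coeToPowerSeries.ringHom_apply,
    Polynomial.coeToPowerSeries.ringHom_apply, Polynomial.coe_X, Polynomial.coe_C, sub_mul, one_mul,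
    mul_assoc]
  ext m
  rw [map_sub]
  rcases m with _ | m
  · simp
  · rw [PowerSeries.coeff_succ_X_mul, PowerSeries.coeff_C_mul, PowerSeries.coeff_mk, PowerSeries.coeff_mk,
      PowerSeries.coeff_one, if_neg m.succ_ne_zero, pow_succ']
    ring

end Triangular

theorem series_of_field {K : Type u} [Field K] [IsAlgClosed K] {r : ℕ} (M : Matrix (Fin r) (Fin r) K) :
    (M.charpolyRev : PowerSeries K) * PowerSeries.mk (fun n => T n M) = 1 := by
  let f : (Fin r → K) →ₗ[K] (Fin r → K) := Matrix.toLin' M
  obtain ⟨b, hb⟩ := exists_triangular_basis r (Module.finrank_fin_fun K) f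
  let e := Pi.basisFun K (Fin r)
  have he : LinearMap.toMatrix e e f = M := by
    simp [e, f]
  have hT : ∀ n, T n M = T n (LinearMap.toMatrix b b f) := fun n => by
    let γ : symT K (Fin r → K) n →ₗ[K] symT K (Fin r → K) n :=
      (PiTensorProduct.map fun _ : Fin n => f).restrict fun x hx => map_mem_symT f x hx
    rw [← trace_eq_T b f γ (fun _ => rfl), trace_eq_T e f γ (fun _ => rfl), he]
  have hc : M.charpolyRev = (LinearMap.toMatrix b b f).charpolyRev := by
    rw [← det_id_sub_X_smul b f, det_id_sub_X_smul e f, he]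
  rw [hc, show (fun n => T n M) = fun n => T n (LinearMap.toMatrix b b f) from funext hT]
  exact series_triangular _ hb

theorem map_charpolyRev' {R : Type u} {S : Type v} [CommRing R] [CommRing S] {r : ℕ} (φ : R →+* S)
    (M : Matrix (Fin r) (Fin r) R) : M.charpolyRev.map φ = (M.map φ).charpolyRev := by
  rw [Matrix.charpolyRev, Matrix.charpolyRev, ← Polynomial.coe_mapRingHom, RingHom.map_det]
  congr 1
  ext i j : 1
  rcases eq_or_ne i j with h | h <;> simp [h]

theorem series_eq_one {R : Type u} [CommRing R] {r : ℕ} (M : Matrix (Fin r) (Fin r) R) :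
    (M.charpolyRev : PowerSeries R) * PowerSeries.mk (fun n => T n M) = 1 := by
  have nat : ∀ {R S : Type} [CommRing R] [CommRing S] (φ : R →+* S) (M : Matrix (Fin r) (Fin r) R),
      PowerSeries.map φ ((M.charpolyRev : PowerSeries R) * PowerSeries.mk (fun n => T n M)) =
        ((M.map φ).charpolyRev : PowerSeries S) * PowerSeries.mk (fun n => T n (M.map φ)) := by
    intro R S _ _ φ M
    rw [map_mul, ← Polynomial.polynomial_map_coe, map_charpolyRev' φ M]
    congr 1
    ext n
    simp [map_T]
  let R₀ := MvPolynomial (Fin r × Fin r) ℤ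
  let K := AlgebraicClosure (FractionRing R₀)
  let ψ : R₀ →+* K := (algebraMap (FractionRing R₀) K).comp (algebraMap R₀ (FractionRing R₀))
  have hψ : Function.Injective ψ :=
    (algebraMap (FractionRing R₀) K).injective.comp (IsFractionRing.injective R₀ (FractionRing R₀))
  let G : Matrix (Fin r) (Fin r) R₀ := Matrix.of fun i j => MvPolynomial.X (i, j)
  have hG : (G.charpolyRev : PowerSeries R₀) * PowerSeries.mk (fun n => T n G) = 1 := by
    refine PowerSeries.map_injective _ hψ ?_
    rw [nat ψ G, map_one]
    exact series_of_field _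
  let φ : R₀ →+* R := MvPolynomial.eval₂Hom (Int.castRingHom R) fun p => M p.1 p.2
  have hM : G.map φ = M := by
    ext i j
    exact MvPolynomial.eval₂Hom_X' _ _ _
  have h := congrArg (PowerSeries.map φ) hG
  rw [map_one, map_mul, ← Polynomial.polynomial_map_coe, map_charpolyRev' φ G, hM] at h
  refine Eq.trans ?_ h
  congr 1
  ext n
  simp [map_T, hM]

end Groth.Agent.EulerDet
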