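import Mathlib.LinearAlgebra.PiTensorProduct.Basis
import Mathlib.LinearAlgebra.Trace
import Mathlib.Data.Sym.Basic
import Mathlib.Data.Fintype.Pi

/-!
# Traces on symmetric tensors
-/

set_option maxHeartbeats 400000

universe u v w

open PiTensorProduct TensorProduct

namespace Groth.Agent.EulerDet

section Comb

variable {ι : Type w} [Fintype ι] [DecidableEq ι] {n : ℕ}

/-- The multiset of values of a tuple. -/
def mult (f : Fin n → ι) : Sym ι n := ⟨(Finset.univ : Finset (Fin n)).val.map f, by simp⟩

theorem mult_comp (f : Fin n → ι) (σ : Equiv.Perm (Fin n)) : mult (f ∘ σ) = mult f := by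
  apply Subtype.ext
  show Finset.univ.val.map (f ∘ σ) = Finset.univ.val.map f
  rw [← Multiset.map_map]
  congr 1
  exact congrArg Finset.val (Finset.map_univ_equiv σ)

theorem exists_perm_of_mult_eq {f g : Fin n → ι} (h : mult f = mult g) :
    ∃ σ : Equiv.Perm (Fin n), f = g ∘ σ := by
  have hc : ∀ a, Fintype.card {k // f k = a} = Fintype.card {k // g k = a} := fun a => by
    have := congrArg (fun s : Sym ι n => Multiset.count a s.1) h
    simp only [mult, Multiset.count_map] at this
    rw [Fintype.card_subtype, Fintype.card_subtype]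
    simpa [Finset.card_def, eq_comm] using this
  exact ⟨Equiv.ofFiberEquiv fun a => Fintype.equivOfCardEq (hc a),
    funext fun k => (Equiv.ofFiberEquiv_map _ k).symm⟩

theorem mult_surjective : Function.Surjective (mult (ι := ι) (n := n)) := by
  intro s
  obtain ⟨l, hl⟩ := s
  induction l using Quotient.inductionOn with
  | _ l =>
    have hlen : l.length = n := hl
    subst hlen
    refine ⟨fun k => l.get k, Subtype.ext ?_⟩
    show Finset.univ.val.map (fun k => l.get k) = (l : Multiset ι)
    rw [Fin.univ_val_map, List.ofFn_get]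

/-- A representing tuple. -/
noncomputable def rep (s : Sym ι n) : Fin n → ι := (mult_surjective s).choose

theorem mult_rep (s : Sym ι n) : mult (rep s) = s := (mult_surjective s).choose_spec

variable {R : Type u} [CommRing R]

/-- The sum of the principal "permanental" coefficients of a matrix. -/
noncomputable def T (n : ℕ) (M : Matrix ι ι R) : R :=
  ∑ s : Sym ι n, ∑ f ∈ Finset.univ.filter (fun f : Fin n → ι => mult f = s), ∏ k, M (rep s k) (f k)

theorem map_T {S : Type v} [CommRing S] (φ : R →+* S) (M : Matrix ι ι R) :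
    φ (T n M) = T n (M.map φ) := by
  simp [T, map_sum, map_prod]

end Comb

section Trace

variable (A : Type u) [CommRing A] (M : Type v) [AddCommGroup M] [Module A M] (n : ℕ)

/-- Symmetric tensors. -/
noncomputable abbrev symT : Submodule A (⨂[A] _i : Fin n, M) :=
  ⨅ σ : Equiv.Perm (Fin n),
    LinearMap.eqLocus ((PiTensorProduct.reindex A (fun _ : Fin n => M) σ).toLinearMap) LinearMap.id

variable {A M n}

theorem map_mem_symT (u : M →ₗ[A] M) (x : ⨂[A] _i : Fin n, M) (hx : x ∈ symT A M n) :
    PiTensorProduct.map (fun _ => u) x ∈ symT A M n := by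
  simp only [Submodule.mem_iInf, LinearMap.mem_eqLocus] at hx ⊢
  intro σ
  have h : (PiTensorProduct.reindex A (fun _ : Fin n => M) σ).toLinearMap ∘ₗ PiTensorProduct.map (fun _ => u) =
      PiTensorProduct.map (fun _ => u) ∘ₗ (PiTensorProduct.reindex A (fun _ : Fin n => M) σ).toLinearMap := by
    ext v
    simp
  have := LinearMap.congr_fun h x
  simp only [LinearMap.coe_comp, Function.comp_apply] at this
  rw [this, hx σ]
  rfl

variable {ι : Type w} [Fintype ι] [DecidableEq ι]

theorem repr_reindex (b : Module.Basis ι A M) (σ : Equiv.Perm (Fin n)) (x : ⨂[A] _i : Fin n, M)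
    (f : Fin n → ι) :
    (Basis.piTensorProduct fun _ : Fin n => b).repr (PiTensorProduct.reindex A (fun _ : Fin n => M) σ x) f =
      (Basis.piTensorProduct fun _ : Fin n => b).repr x (f ∘ σ) := by
  let B := Basis.piTensorProduct fun _ : Fin n => b
  have h : Finsupp.lapply f ∘ₗ B.repr.toLinearMap ∘ₗ (PiTensorProduct.reindex A (fun _ : Fin n => M) σ).toLinearMap =
      Finsupp.lapply (f ∘ σ) ∘ₗ B.repr.toLinearMap := by
    refine B.ext fun g => ?_
    have e : PiTensorProduct.reindex A (fun _ : Fin n => M) σ (B g) = B (g ∘ σ.symm) := by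
      simp [B]
    simp only [LinearMap.coe_comp, Function.comp_apply, LinearEquiv.coe_coe, Finsupp.lapply_apply]
    rw [e, B.repr_self, B.repr_self, Finsupp.single_apply, Finsupp.single_apply]
    refine if_congr ⟨fun h => ?_, fun h => ?_⟩ rfl rfl
    · subst h; ext k; simp
    · subst h; ext k; simp
  exact LinearMap.congr_fun h x

/-- Coordinates of symmetric tensors. -/
noncomputable def symEquiv (b : Module.Basis ι A M) : symT A M n ≃ₗ[A] (Sym ι n → A) :=
  let B := Basis.piTensorProduct fun _ : Fin n => b
  { toFun := fun x s => B.equivFun x.1 (rep s)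
    map_add' := fun x y => by ext s; simp
    map_smul' := fun a x => by ext s; simp
    invFun := fun g => ⟨B.equivFun.symm fun f => g (mult f), by
      simp only [Submodule.mem_iInf, LinearMap.mem_eqLocus]
      intro σ
      refine B.ext_elem fun f => ?_
      show B.repr (PiTensorProduct.reindex A (fun _ : Fin n => M) σ _) f = _
      rw [repr_reindex b σ]
      show B.equivFun (B.equivFun.symm _) (f ∘ σ) = B.equivFun (B.equivFun.symm _) f
      rw [LinearEquiv.apply_symm_apply]
      exact congrArg g (mult_comp f σ)⟩
    left_inv := fun x => by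
      apply Subtype.ext
      refine B.ext_elem fun f => ?_
      show B.equivFun (B.equivFun.symm fun f => B.equivFun x.1 (rep (mult f))) f = _
      rw [LinearEquiv.apply_symm_apply]
      obtain ⟨σ, hσ⟩ := exists_perm_of_mult_eq (mult_rep (mult f))
      have hx := x.2
      simp only [Submodule.mem_iInf, LinearMap.mem_eqLocus] at hx
      show B.repr x.1 (rep (mult f)) = B.repr x.1 f
      rw [hσ, ← repr_reindex b σ]
      exact congrArg (fun y => B.repr y f) (hx σ)
    right_inv := fun g => by
      ext s
      show B.equivFun (B.equivFun.symm fun f => g (mult f)) (rep s) = g s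
      rw [LinearEquiv.apply_symm_apply, mult_rep] }

theorem symEquiv_apply (b : Module.Basis ι A M) (x : symT A M n) (s : Sym ι n) :
    symEquiv b x s = (Basis.piTensorProduct fun _ : Fin n => b).equivFun x.1 (rep s) := rfl

theorem symEquiv_symm_coe (b : Module.Basis ι A M) (g : Sym ι n → A) :
    ((symEquiv b).symm g).1 =
      (Basis.piTensorProduct fun _ : Fin n => b).equivFun.symm fun f => g (mult f) := rfl

theorem trace_eq_T (b : Module.Basis ι A M) (u : M →ₗ[A] M) (γ : symT A M n →ₗ[A] symT A M n)
    (hγ : ∀ x, (γ x : ⨂[A] _i : Fin n, M) = PiTensorProduct.map (fun _ : Fin n => u) x) :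
    LinearMap.trace A (symT A M n) γ = T n (LinearMap.toMatrix b b u) := by
  let B := Basis.piTensorProduct fun _ : Fin n => b
  let bS : Module.Basis (Sym ι n) A (symT A M n) := Module.Basis.ofEquivFun (symEquiv b)
  rw [LinearMap.trace_eq_matrix_trace A bS γ, Matrix.trace, T]
  refine Finset.sum_congr rfl fun s _ => ?_
  rw [Matrix.diag_apply, LinearMap.toMatrix_apply]
  have h1 : (bS s : ⨂[A] _i : Fin n, M) =
      ∑ f ∈ Finset.univ.filter (fun f : Fin n → ι => mult f = s), B f := by
    rw [show bS s = (symEquiv b).symm (Pi.single s (1 : A)) by simp [bS, Module.Basis.coe_ofEquivFun]]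
    rw [symEquiv_symm_coe, Module.Basis.equivFun_symm_apply, Finset.sum_filter]
    refine Finset.sum_congr rfl fun f _ => ?_
    rw [Pi.single_apply]
    split_ifs <;> simp [B]
  rw [show bS.repr (γ (bS s)) s = B.repr (γ (bS s)).1 (rep s) by
    rw [← Module.Basis.equivFun_apply bS, ← Module.Basis.equivFun_apply B]
    simp only [bS, Module.Basis.equivFun_ofEquivFun, symEquiv_apply, B]]
  rw [hγ, h1, map_sum, map_sum, Finsupp.finset_sum_apply]
  refine Finset.sum_congr rfl fun f _ => ?_
  have : PiTensorProduct.map (fun _ : Fin n => u) (B f) = ⨂ₜ[A] k, u (b (f k)) := by simp [B]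
  rw [this]
  simp [B, LinearMap.toMatrix_apply]

end Trace

end Groth.Agent.EulerDet
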